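-- Sub-project [PDER+] of OPAR (S5989): package [UA] (helper27).
import Mathlib
import Cfsg.Agent.Lib.Helper57.OPar.Defs

set_option autoImplicit false
set_option linter.unusedSectionVars false

namespace Cfsg.Agent.Lib.Helper27.OPar

open Cfsg.Agent.Lib.Helper57.OPar

universe u

/-- [UA] -/
theorem pkgUA (hAlt : PkgAlt.{u}) : PkgUA.{u} := by
  intro F _ V _ _ _ h2 B N hsym hiso hN2 e φ hφ W hW hnd
  classical
  have s1 : ∀ u v, B (N u) (N v) = 0 := by
    intro u v
    have h := hiso u (N v)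
    rw [hN2, add_zero, map_add, LinearMap.add_apply] at h
    linear_combination h
  have s2 : ∀ u v, B (N u) v = - B u (N v) := by
    intro u v
    have h := hiso u v
    simp only [map_add, LinearMap.add_apply, s1, add_zero] at h
    linear_combination h
  have s3 : ∀ u, B (N u) u = 0 := by
    intro u
    have h := s2 u u
    rw [hsym u (N u)] at h
    have h' : (2 : F) * B (N u) u = 0 := by linear_combination h
    rcases mul_eq_zero.mp h' with h'' | h''
    · exact absurd h'' h2
    · exact h''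
  obtain ⟨NW, hNW⟩ : ∃ NW : W →ₗ[F] W, ∀ w : W, ((NW w : W) : V) = N (w : V) :=
    ⟨N.restrict hW, fun w => rfl⟩
  obtain ⟨K, hK⟩ : ∃ K : Submodule F W, K = LinearMap.ker NW := ⟨_, rfl⟩
  have hKmem : ∀ w : W, w ∈ K ↔ N (w : V) = 0 := by
    intro w
    rw [hK, LinearMap.mem_ker, ← hNW]
    constructor
    · intro h; rw [h]; rfl
    · intro h; exact Subtype.ext h
  obtain ⟨C, hC⟩ := Submodule.exists_isCompl K
  have hdim : Module.finrank F K + Module.finrank F C = Module.finrank F W :=
    Submodule.finrank_add_eq_of_isCompl hC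
  have hdec : ∀ w : W, ∃ k ∈ K, ∃ c ∈ C, k + c = w := by
    intro w
    have : w ∈ K ⊔ C := by rw [hC.sup_eq_top]; trivial
    exact Submodule.mem_sup.mp this
  have hNK : ∀ (u : V) (k : W), k ∈ K → B (N u) (k : V) = 0 := by
    intro u k hk
    rw [s2, (hKmem k).mp hk, map_zero, neg_zero]
  have hKC : ∀ c : C, (c : W) ∈ K → c = 0 := by
    intro c hcK
    have : (c : W) ∈ K ⊓ C := ⟨hcK, c.2⟩
    rw [hC.inf_eq_bot, Submodule.mem_bot] at this
    exact Subtype.ext this
  -- `finrank C ≤ finrank K`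
  have hρκ : Module.finrank F C ≤ Module.finrank F K := by
    have hmem : ∀ c : C, (NW.domRestrict C) c ∈ K := by
      intro c
      rw [LinearMap.domRestrict_apply, hKmem, hNW, hN2]
    apply LinearMap.finrank_le_finrank_of_injective (f := (NW.domRestrict C).codRestrict K hmem)
    rw [← LinearMap.ker_eq_bot, LinearMap.ker_eq_bot']
    intro c hc
    apply hKC
    rw [hK, LinearMap.mem_ker]
    have := congrArg Subtype.val hc
    exact this
  -- `finrank C` is even
  obtain ⟨ι, hι⟩ : ∃ ι : C →ₗ[F] V, ∀ c : C, ι c = ((c : W) : V) :=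
    ⟨W.subtype ∘ₗ C.subtype, fun c => rfl⟩
  obtain ⟨β, hβ⟩ : ∃ β : C →ₗ[F] C →ₗ[F] F,
      ∀ c c' : C, β c c' = B (N ((c : W) : V)) ((c' : W) : V) :=
    ⟨(B ∘ₗ N).compl₁₂ ι ι, fun c c' => by
      rw [LinearMap.compl₁₂_apply, LinearMap.comp_apply, hι, hι]⟩
  have heven : Even (Module.finrank F C) := by
    apply hAlt F C h2 β
    · intro c; rw [hβ]; exact s3 _
    · intro c hc
      apply hKC
      rw [hKmem]
      by_contra hne
      obtain ⟨v, hv, hne'⟩ := hnd _ (hW _ (c : W).2) hne
      obtain ⟨k, hk, c', hc', hkc⟩ := hdec ⟨v, hv⟩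
      apply hne'
      have e1 : v = (k : V) + ((c' : W) : V) := by
        rw [← Submodule.coe_add, hkc]
      rw [e1, map_add, hNK _ k hk, zero_add]
      have := hc ⟨c', hc'⟩
      rw [hβ] at this
      exact this
  -- `finrank K ≤ finrank C + e`
  obtain ⟨ψ, hψ⟩ : ∃ ψ : K →ₗ[F] (Fin e → F), ∀ k : K, ψ k = φ ((k : W) : V) :=
    ⟨φ ∘ₗ W.subtype ∘ₗ K.subtype, fun k => rfl⟩
  have hrk := LinearMap.finrank_range_add_finrank_ker ψ
  have hr : Module.finrank F (LinearMap.range ψ) ≤ e := by
    have := Submodule.finrank_le (LinearMap.range ψ)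
    rwa [Module.finrank_fin_fun] at this
  obtain ⟨θ, hθ⟩ : ∃ θ : LinearMap.ker ψ →ₗ[F] Module.Dual F C,
      ∀ (v : LinearMap.ker ψ) (c : C), θ v c = B (((v : K) : W) : V) ((c : W) : V) :=
    ⟨B.compl₁₂ (W.subtype ∘ₗ K.subtype ∘ₗ (LinearMap.ker ψ).subtype) ι, fun v c => by
      rw [LinearMap.compl₁₂_apply, hι]; rfl⟩
  have hθinj : Function.Injective θ := by
    rw [injective_iff_map_eq_zero]
    intro v hv
    have hNv : N (((v : K) : W) : V) = 0 := (hKmem _).mp (v : K).2
    have hφv : φ (((v : K) : W) : V) = 0 := by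
      have := v.2
      rw [LinearMap.mem_ker, hψ] at this
      exact this
    obtain ⟨u, hu⟩ := hφ _ hNv hφv
    have h0 : (((v : K) : W) : V) = 0 := by
      by_contra hne
      obtain ⟨w, hw, hne'⟩ := hnd _ ((v : K) : W).2 hne
      obtain ⟨k, hk, c', hc', hkc⟩ := hdec ⟨w, hw⟩
      apply hne'
      have e1 : w = (k : V) + ((c' : W) : V) := by
        rw [← Submodule.coe_add, hkc]
      have e2 : B (((v : K) : W) : V) (k : V) = 0 := by rw [← hu]; exact hNK u k hk
      have e3 : B (((v : K) : W) : V) ((c' : W) : V) = 0 := by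
        have := LinearMap.congr_fun hv ⟨c', hc'⟩
        rw [hθ] at this
        exact this
      rw [e1, map_add, e2, e3, add_zero]
    exact Subtype.ext (Subtype.ext (Subtype.ext h0))
  have hker : Module.finrank F (LinearMap.ker ψ) ≤ Module.finrank F C := by
    have := LinearMap.finrank_le_finrank_of_injective hθinj
    rwa [Subspace.dual_finrank_eq] at this
  obtain ⟨a, ha⟩ := heven
  refine ⟨a, Module.finrank F K - Module.finrank F C, ?_, ?_⟩ <;> omega

end Cfsg.Agent.Lib.Helper27.OPar
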